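import Cfsg.Agent.Eq.Def_FusionSystem
import Cfsg.Agent.Eq.Def_Solvable
import Cfsg.Agent.Fusion.Alperin.Criteria
import Cfsg.Agent.Fus.EssentialAbelian
import Cfsg.Agent.FusModel.Construction

/-!
Saturated fusion systems over groups of Heisenberg type (derived subgroup central, commuting transitive
outside the centre, every non-central element conjugate to its whole coset of the centre): a non-trivial
normal subgroup forces a normal centric subgroup, hence a model.

The point: if `Q ≠ 1` is normal and central in `S` and `A` is an abelian essential subgroup, choose an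
automorphism `a` of `A` moving the centre `Z` with `Z ∩ a Z` as large as possible; the coset property
gives an element of `Aut_S A` that enlarges this intersection unless it is trivial, but it contains `Q`.
-/

set_option autoImplicit false

namespace CfsgLib.Fus.HeisenbergSylow

open Cfsg Cfsg.FusionSystem CfsgLib.Fus CfsgLib.Fusion.Alperin

universe u

variable {Ω : Type*} [Group Ω] {S : Subgroup Ω}

/-- The centre of `S`. -/
def zS (S : Subgroup Ω) : Subgroup Ω := S ⊓ Subgroup.centralizer (S : Set Ω)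

theorem comm_of_mem_zS {z x : Ω} (hz : z ∈ zS S) (hx : x ∈ S) : x * z = z * x := hz.2 x hx

/-- Groups of Heisenberg type. -/
structure HType (S : Subgroup Ω) : Prop where
  der : ∀ a ∈ S, ∀ b ∈ S, a * b * a⁻¹ * b⁻¹ ∈ zS S
  ca : ∀ x ∈ S, x ∉ zS S → ∀ y ∈ S, ∀ z ∈ S, Commute x y → Commute x z → Commute y z
  surj : ∀ x ∈ S, x ∉ zS S → ∀ z ∈ zS S, ∃ s ∈ S, s * x * s⁻¹ = x * z

variable [Finite S] {p : ℕ} [Fact p.Prime] {F : Cfsg.FusionSystem S}

omit [Finite S] in
theorem zS_le_of_centric {R : Subgroup Ω} (hc : F.IsCentric R) : zS S ≤ R := fun _ hz =>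
  centralizerIn_le_of_centric hc ⟨hz.1, fun x hx => hz.2 x (hc.1 hx)⟩

omit [Finite S] in
theorem normalizes (h : HType S) {R : Subgroup Ω} (hR : R ≤ S) (hZ : zS S ≤ R) {g : Ω} (hg : g ∈ S) :
    g ∈ Subgroup.normalizer (R : Set Ω) := by
  have key : ∀ g ∈ S, ∀ x ∈ R, g * x * g⁻¹ ∈ R := by
    intro g hg x hx
    have h1 := R.mul_mem (hZ (h.der g hg x (hR hx))) hx
    simpa using h1
  refine Subgroup.mem_normalizer_iff.2 fun x => ⟨key g hg x, fun hx => ?_⟩
  simpa [mul_assoc] using key g⁻¹ (S.inv_mem hg) _ hx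

/-- A proper centric radical subgroup is the centralizer in `S` of any of its non-central elements. -/
theorem proper_radical (hS : IsPGroup p S) (h : HType S) {R : Subgroup Ω} (hc : F.IsCentric R)
    (hr : F.IsRadical p R) (hne : R ≠ S) :
    (∀ a ∈ R, ∀ b ∈ R, Commute a b) ∧ (∃ x ∈ R, x ∉ zS S) ∧
      ∀ x ∈ R, x ∉ zS S → ∀ y ∈ S, Commute x y → y ∈ R := by
  have hRS := hc.1
  have hZ := zS_le_of_centric hc
  have habel : ∀ a ∈ R, ∀ b ∈ R, Commute a b := by
    by_contra hna
    push Not at hna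
    obtain ⟨a, ha, b, hb, hab⟩ := hna
    have hcen : ∀ x ∈ R, (∀ y ∈ R, Commute x y) → x ∈ zS S := fun x hx hxR => by
      by_contra hxZ
      exact hab (h.ca x (hRS hx) hxZ a (hRS ha) b (hRS hb) (hxR a ha) (hxR b hb))
    refine hne (le_antisymm hRS fun g hg => ?_)
    let L : ℕ → Subgroup Ω := fun i => if i = 0 then ⊥ else if i = 1 then zS S else S
    refine mem_of_stabilizes_series hS hc hr ⟨hg, normalizes h hRS hZ hg⟩ 2 L rfl ?_ ?_ ?_ ?_
    · simpa [L] using hRS
    · refine monotone_nat_of_le_succ fun i => ?_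
      rcases i with _ | _ | i <;> simp only [L] <;> simp
      exact inf_le_left
    · intro i α _ x hx
      rcases i with _ | _ | i
      · simp only [L, ↓reduceIte, Subgroup.mem_bot] at hx ⊢
        have hx1 : x = 1 := Subtype.ext hx
        simp [hx1]
      · simp only [L] at hx ⊢
        simp only [Nat.zero_add, one_ne_zero, ↓reduceIte] at hx ⊢
        refine hcen _ (α x).2 fun y hy => ?_
        obtain ⟨y', hy'⟩ : ∃ y' : R, α y' = ⟨y, hy⟩ := ⟨α.symm ⟨y, hy⟩, α.apply_symm_apply _⟩
        have hxy : Commute x y' := Subtype.ext ((comm_of_mem_zS hx (hRS y'.2)).symm)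
        have := (hxy.map α).map R.subtype
        rw [hy'] at this
        exact this
      · simp only [L]
        simpa using hRS (α x).2
    · intro i hi x hxR hx
      interval_cases i
      · simp only [L, Nat.zero_add, one_ne_zero, ↓reduceIte] at hx ⊢
        rw [Subgroup.mem_bot, comm_of_mem_zS hx hg]
        group
      · simp only [L, Nat.reduceAdd, OfNat.ofNat_ne_zero, OfNat.ofNat_ne_one, one_ne_zero,
          ↓reduceIte] at hx ⊢
        have h1 := h.der x⁻¹ (S.inv_mem hx) g hg
        simpa [mul_assoc] using h1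
  refine ⟨habel, ?_, fun x hx hxZ y hy hxy => centralizerIn_le_of_centric hc
    ⟨hy, fun r hr' => h.ca x (hRS hx) hxZ r (hRS hr') y hy (habel x hx r hr') hxy⟩⟩
  by_contra hsub
  push Not at hsub
  exact hne (le_antisymm hRS fun g hg => centralizerIn_le_of_centric hc
    ⟨hg, fun r hr' => (comm_of_mem_zS (hsub r hr') hg).symm⟩)

/-- A non-trivial normal subgroup is not central in `S` when there is a proper Alperin subgroup. -/
theorem false_of_central (hS : IsPGroup p S) (h : HType S) (hF : F.IsSaturated p) {A Q : Subgroup Ω}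
    (hA : IsAlperinSubgroup F p A) (hne : A ≠ S) (hQ : F.IsNormal Q) (hQ1 : Q ≠ ⊥)
    (hQZ : Q ≤ zS S) : False := by
  classical
  obtain ⟨habel, ⟨x₀, hx₀A, hx₀Z⟩, hC⟩ := proper_radical hS h hA.centric hA.radical hne
  have hAS := hA.centric.1
  have hZ := zS_le_of_centric hA.centric
  have hess := hA.top_or_essential.resolve_left hne
  have : Finite A := finite_of_le hAS
  have : Finite (MulAut A) := finite_mulAut A
  set X := F.autGroup A with hXdef
  obtain ⟨U, hU⟩ : ∃ U : Sylow p X, (U : Subgroup X) = (Cfsg.autInducedBy S A).subgroupOf X :=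
    (fullyNormalized_props hS hF hA.fullyNormalized).1.2
  let ZA : Subgroup A := (zS S).subgroupOf A
  have hmemU : ∀ {α : X}, α ∈ (U : Subgroup X) ↔
      ∃ g ∈ S, ∀ x : A, (((α : MulAut A) x : A) : Ω) = g * (x : Ω) * g⁻¹ := by
    intro α
    rw [hU, Subgroup.mem_subgroupOf, mem_autInducedBy_iff]
  have hUfix : ∀ α ∈ (U : Subgroup X), ∀ z ∈ ZA, (α : MulAut A) z = z := by
    intro α hα z hz
    obtain ⟨g, hg, he⟩ := hmemU.1 hα
    have hz' : (z : Ω) ∈ zS S := hz
    refine Subtype.ext ?_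
    rw [he, comm_of_mem_zS hz' hg, mul_inv_cancel_right]
  -- the stabilizer of `1 ≤ Z ≤ A`
  let K : Subgroup X :=
    { carrier := {α | (∀ z ∈ ZA, (α : MulAut A) z = z) ∧ ∀ x : A, x⁻¹ * (α : MulAut A) x ∈ ZA}
      one_mem' := ⟨fun z _ => rfl, fun x => by simp⟩
      mul_mem' := fun {α β} hα hβ => ⟨fun z hz => by
          show (α : MulAut A) ((β : MulAut A) z) = z
          rw [hβ.1 z hz, hα.1 z hz], fun x => by
          show x⁻¹ * (α : MulAut A) ((β : MulAut A) x) ∈ ZA
          have e : x⁻¹ * (α : MulAut A) ((β : MulAut A) x) =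
              (x⁻¹ * (β : MulAut A) x) *
                (((β : MulAut A) x)⁻¹ * (α : MulAut A) ((β : MulAut A) x)) := by group
          rw [e]
          exact ZA.mul_mem (hβ.2 x) (hα.2 _)⟩
      inv_mem' := fun {α} hα => ⟨fun z hz => by
          show (α : MulAut A)⁻¹ z = z
          conv_lhs => rw [← hα.1 z hz]
          simp, fun x => by
          show x⁻¹ * (α : MulAut A)⁻¹ x ∈ ZA
          have hy := ZA.inv_mem (hα.2 ((α : MulAut A)⁻¹ x))
          simpa using hy⟩ }
  have hKp : IsPGroup p K := by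
    intro α
    have hst := α.2
    obtain ⟨k, hk⟩ := exists_pow_eq_one_of_stabilizes (hS.to_le hAS) 2
      (fun i => if i = 0 then (⊥ : Subgroup Ω) else if i = 1 then zS S else S)
      rfl (by simpa using hAS) (monotone_nat_of_le_succ fun i => by
        rcases i with _ | _ | i <;> simp
        exact inf_le_left) (α := ((α : X) : MulAut A)) (fun i hi x hx => by
        interval_cases i
        · simp only [Nat.zero_add, one_ne_zero, ↓reduceIte] at hx ⊢
          rw [hst.1 x hx]
          simp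
        · exact hst.2 x)
    exact ⟨k, Subtype.ext (Subtype.ext hk)⟩
  have hUK : (U : Subgroup X) ≤ K := by
    refine fun α hα => ⟨hUfix α hα, fun x => ?_⟩
    obtain ⟨g, hg, he⟩ := hmemU.1 hα
    show ((x⁻¹ * (α : MulAut A) x : A) : Ω) ∈ zS S
    rw [Subgroup.coe_mul, he]
    have h1 := h.der (x : Ω)⁻¹ (S.inv_mem (hAS x.2)) g hg
    simpa [mul_assoc] using h1
  have hKU : K = (U : Subgroup X) := U.is_maximal' hKp hUK
  -- automorphisms preserving `Z` normalize `U`
  have hnorm : ∀ c : X, (∀ z ∈ ZA, (c : MulAut A) z ∈ ZA) →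
      c ∈ Subgroup.normalizer ((U : Subgroup X) : Set X) := by
    intro c hc
    have hc' : ∀ z ∈ ZA, (c : MulAut A)⁻¹ z ∈ ZA := by
      intro z hz
      have hbij : Function.Bijective (fun w : ZA => (⟨(c : MulAut A) w, hc w w.2⟩ : ZA)) :=
        Finite.injective_iff_bijective.1 fun w w' e => Subtype.ext ((c : MulAut A).injective
          (congrArg Subtype.val e))
      obtain ⟨w, hw⟩ := hbij.2 ⟨z, hz⟩
      rw [← show (c : MulAut A) w = z from congrArg Subtype.val hw]
      simp
    have key : ∀ d : X, (∀ z ∈ ZA, (d : MulAut A) z ∈ ZA) → (∀ z ∈ ZA, (d : MulAut A)⁻¹ z ∈ ZA) →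
        ∀ α ∈ (U : Subgroup X), d * α * d⁻¹ ∈ (U : Subgroup X) := by
      intro d hd hd' α hα
      rw [← hKU] at hα ⊢
      refine ⟨fun z hz => ?_, fun x => ?_⟩
      · show (d : MulAut A) ((α : MulAut A) ((d : MulAut A)⁻¹ z)) = z
        rw [hα.1 _ (hd' z hz)]
        simp
      · show x⁻¹ * (d : MulAut A) ((α : MulAut A) ((d : MulAut A)⁻¹ x)) ∈ ZA
        have h1 := hd _ (hα.2 ((d : MulAut A)⁻¹ x))
        simpa using h1
    refine Subgroup.mem_normalizer_iff.2 fun α => ⟨key c hc hc' α, fun hα => ?_⟩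
    have h1 := key c⁻¹ (by simpa using hc') (by simpa using hc) _ hα
    simpa [mul_assoc] using h1
  -- some automorphism moves `Z`
  have hmove : ∃ a : X, ∃ z ∈ ZA, (a : MulAut A) z ∉ ZA := by
    by_contra hall
    push Not at hall
    have hUn : (U : Subgroup X).Normal :=
      Subgroup.normalizer_eq_top_iff.1 (eq_top_iff.2 fun c _ => hnorm c fun z hz => hall c z hz)
    obtain ⟨g, hg, hgA⟩ := exists_normalizing_not_mem hS hAS hne
    let α : X := ⟨conjAut hg.2, autInducedBy_le_autGroup F hAS (conjAut_mem_autInducedBy hg.2 hg.1)⟩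
    have hα : α ∈ (U : Subgroup X) := by rw [hU]; exact conjAut_mem_autInducedBy hg.2 hg.1
    have h1 : α = 1 := EssentialAbelian.eq_one_of_mem_pCore hess
      (fun x y => Subtype.ext (habel x x.2 y y.2)) (CharP.le_pCore hUn U.isPGroup' hα)
    refine hgA (hC x₀ hx₀A hx₀Z g hg.1 ?_)
    have h2 : g * x₀ * g⁻¹ = x₀ :=
      congrArg (fun β : X => (((β : MulAut A) ⟨x₀, hx₀A⟩ : A) : Ω)) h1
    show x₀ * g = g * x₀
    conv_lhs => rw [← h2]
    group
  let R : X → Finset A := fun a => (Set.toFinite {z : A | z ∈ ZA ∧ (a : MulAut A)⁻¹ z ∈ ZA}).toFinset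
  obtain ⟨a, ⟨w, hw, hwm⟩, hmax⟩ :
      ∃ a : X, (∃ z ∈ ZA, (a : MulAut A) z ∉ ZA) ∧
        ∀ b : X, (∃ z ∈ ZA, (b : MulAut A) z ∉ ZA) → (R b).card ≤ (R a).card := by
    haveI : Fintype X := Fintype.ofFinite _
    obtain ⟨a, ha, hmax⟩ := Finset.exists_max_image
      (Finset.univ.filter fun b : X => ∃ z ∈ ZA, (b : MulAut A) z ∉ ZA) (fun b => (R b).card)
      (by obtain ⟨a, ha⟩ := hmove; exact ⟨a, Finset.mem_filter.2 ⟨Finset.mem_univ _, ha⟩⟩)
    exact ⟨a, (Finset.mem_filter.1 ha).2, fun b hb =>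
      hmax b (Finset.mem_filter.2 ⟨Finset.mem_univ _, hb⟩)⟩
  obtain ⟨q, hqQ, hq1⟩ : ∃ q ∈ Q, q ≠ 1 := by
    by_contra hh
    push Not at hh
    exact hQ1 ((Subgroup.eq_bot_iff_forall _).2 hh)
  set r : A := ⟨q, hZ (hQZ hqQ)⟩ with hrdef
  have hr : r ∈ ZA := hQZ hqQ
  have hra : (a : MulAut A)⁻¹ r ∈ ZA :=
    hQZ (map_mem_of_isNormal hQ ((mem_autGroup_iff F hAS).1 (X.inv_mem a.2)) hqQ)
  set v : A := (a : MulAut A) w with hv
  obtain ⟨s, hs, hse⟩ := h.surj v (hAS v.2) hwm q (hQZ hqQ)
  have hsN := normalizes h hAS hZ hs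
  let u : X := ⟨conjAut hsN, autInducedBy_le_autGroup F hAS (conjAut_mem_autInducedBy hsN hs)⟩
  have hu : u ∈ (U : Subgroup X) := by rw [hU]; exact conjAut_mem_autInducedBy hsN hs
  have huv : (u : MulAut A) v = v * r := Subtype.ext hse
  set c : X := a⁻¹ * u * a with hcdef
  have hcinv : ∀ y : A, (c : MulAut A)⁻¹ y =
      (a : MulAut A)⁻¹ ((u : MulAut A)⁻¹ ((a : MulAut A) y)) := by
    intro y
    show ((((a⁻¹ * u * a : X)⁻¹ : X)) : MulAut A) y = _
    rw [show (a⁻¹ * u * a)⁻¹ = a⁻¹ * u⁻¹ * a by group]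
    rfl
  have hcZ : ∀ z ∈ ZA, (c : MulAut A) z ∈ ZA := by
    by_contra hh
    push Not at hh
    refine absurd (hmax c hh) (not_le.2 ?_)
    have hwr : w * (a : MulAut A)⁻¹ r ∈ R c := by
      simp only [R, Set.Finite.mem_toFinset, Set.mem_ofPred_eq]
      refine ⟨ZA.mul_mem hw hra, ?_⟩
      rw [hcinv, map_mul, ← hv]
      simp only [MulAut.inv_def, MulEquiv.apply_symm_apply]
      rw [← huv, MulEquiv.symm_apply_apply, hv, MulEquiv.symm_apply_apply]
      exact hw
    have hsub : (R a).image (fun z => (a : MulAut A)⁻¹ z) ⊆ R c := by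
      intro y hy
      obtain ⟨z, hz, rfl⟩ := Finset.mem_image.1 hy
      simp only [R, Set.Finite.mem_toFinset, Set.mem_ofPred_eq] at hz ⊢
      refine ⟨hz.2, ?_⟩
      rw [hcinv, show (a : MulAut A) ((a : MulAut A)⁻¹ z) = z by simp,
        show (u : MulAut A)⁻¹ z = z by
          conv_lhs => rw [← hUfix u hu z hz.1]
          simp]
      exact hz.2
    have hnot : w * (a : MulAut A)⁻¹ r ∉ (R a).image (fun z => (a : MulAut A)⁻¹ z) := by
      intro hy
      obtain ⟨z, hz, he⟩ := Finset.mem_image.1 hy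
      simp only [R, Set.Finite.mem_toFinset, Set.mem_ofPred_eq] at hz
      have h1 := congrArg (fun t => (a : MulAut A) t) he
      simp only [map_mul, MulAut.inv_def, MulEquiv.apply_symm_apply, ← hv] at h1
      refine hwm ?_
      rw [show v = z * r⁻¹ by rw [h1]; group]
      exact ZA.mul_mem hz.1 (ZA.inv_mem hr)
    have h2 := Finset.card_lt_card (Finset.ssubset_iff_subset_ne.2 ⟨hsub, fun e => hnot (e ▸ hwr)⟩)
    rwa [Finset.card_image_of_injective _ ((a : MulAut A)⁻¹).injective] at h2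
  -- `c` is a `p`-element normalizing `U`, so it fixes `Z`
  have hcU : c ∈ (U : Subgroup X) := by
    have hcp : IsPGroup p (Subgroup.zpowers c) := by
      obtain ⟨k, hk⟩ := U.isPGroup' ⟨u, hu⟩
      have hk' : u ^ p ^ k = 1 := congrArg Subtype.val hk
      rintro ⟨_, m, rfl⟩
      refine ⟨k, Subtype.ext ?_⟩
      show (c ^ m) ^ p ^ k = 1
      rw [← zpow_natCast, ← zpow_mul, mul_comm, zpow_mul, zpow_natCast, hcdef,
        show (a⁻¹ * u * a) ^ p ^ k = a⁻¹ * u ^ p ^ k * a by
          have := conj_pow (a := a⁻¹) (b := u) (i := p ^ k)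
          simpa using this,
        hk']
      simp
    have hle : Subgroup.zpowers c ≤ Subgroup.normalizer ((U : Subgroup X) : Set X) :=
      Subgroup.zpowers_le.2 (hnorm c hcZ)
    have hsup := hcp.to_sup_of_normal_right' U.isPGroup' hle
    have heq := U.is_maximal' hsup le_sup_right
    rw [← heq]
    exact Subgroup.mem_sup_left (Subgroup.mem_zpowers c)
  have hfix : (c : MulAut A) w = w := hUfix c hcU w hw
  have h3 : (u : MulAut A) v = v := by
    have h4 := congrArg (fun t => (a : MulAut A) t) hfix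
    simpa [hcdef, hv] using h4
  rw [huv] at h3
  exact hq1 (congrArg Subtype.val (mul_eq_left.1 h3) :)

/-- With a non-trivial core there is a normal centric subgroup. -/
theorem exists_normal_centric (hS : IsPGroup p S) (h : HType S) (hF : F.IsSaturated p)
    (hcore : F.core ≠ ⊥) : ∃ Q, F.IsNormal Q ∧ F.IsCentric Q := by
  by_cases hall : ∀ R, IsAlperinSubgroup F p R → R = S
  · exact ⟨S, (isNormal_top_iff hS hF).2 hall, isCentric_top F⟩
  push Not at hall
  obtain ⟨A, hA, hne⟩ := hall
  have hQ := isNormal_core F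
  obtain ⟨x, hxQ, hxZ⟩ : ∃ x ∈ F.core, x ∉ zS S := by
    by_contra hh
    push Not at hh
    exact false_of_central hS h hF hA hne hQ hcore hh
  obtain ⟨habel, -, hC⟩ := proper_radical hS h hA.centric hA.radical hne
  have hxA : x ∈ A := le_of_centric_radical hS hQ hA.centric hA.radical hxQ
  have hAeq : ∀ R, IsAlperinSubgroup F p R → R ≠ S → R = A := by
    intro R hR hRS
    obtain ⟨hab', -, hC'⟩ := proper_radical hS h hR.centric hR.radical hRS
    have hxR : x ∈ R := le_of_centric_radical hS hQ hR.centric hR.radical hxQ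
    exact le_antisymm (fun y hy => hC x hxA hxZ y (hR.centric.1 hy) (hab' x hxR y hy))
      fun y hy => hC' x hxR hxZ y (hA.centric.1 hy) (habel x hxA y hy)
  refine ⟨A, isNormal_criterion hS hF hA.centric.1 (fun R hR => ?_) (fun R hR α hα y hy => ?_),
    hA.centric⟩
  · by_cases hRS : R = S
    · rw [hRS]; exact hA.centric.1
    · rw [hAeq R hR hRS]
  · by_cases hRS : R = S
    · subst hRS
      have hx' : ((α ⟨x, hA.centric.1 hxA⟩ : R) : Ω) ∈ F.core :=
        map_mem_of_isNormal hQ ((mem_autGroup_iff F le_rfl).1 hα) hxQ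
      have hxZ' : ((α ⟨x, hA.centric.1 hxA⟩ : R) : Ω) ∉ zS R := by
        intro hz
        refine hxZ ⟨hA.centric.1 hxA, fun z hzS => ?_⟩
        have h1 := hz.2 _ (α ⟨z, hzS⟩).2
        rw [← Subgroup.coe_mul, ← Subgroup.coe_mul, ← map_mul, ← map_mul] at h1
        exact congrArg Subtype.val (α.injective (Subtype.ext h1))
      refine hC _ (le_of_centric_radical hS hQ hA.centric hA.radical hx') hxZ' _ (α y).2 ?_
      have hxy : Commute (⟨x, hA.centric.1 hxA⟩ : R) y := Subtype.ext (habel x hxA y hy).eq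
      exact (hxy.map α).map R.subtype
    · obtain rfl := hAeq R hR hRS
      exact (α y).2

/-- A system with non-trivial core over a group of Heisenberg type is realizable. -/
theorem isRealizable {Ω : Type u} [Group Ω] {S : Subgroup Ω} [Finite S] {p : ℕ} [Fact p.Prime]
    {F : Cfsg.FusionSystem S} (hS : IsPGroup p S) (h : HType S) (hF : F.IsSaturated p)
    (hcore : F.core ≠ ⊥) : F.IsRealizable p := by
  obtain ⟨Q, hn, hc⟩ := exists_normal_centric hS h hF hcore
  obtain ⟨G, _, ι, hG, hreal, hT, -⟩ := CfsgLib.FusModel.exists_model hS hF hn hc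
  exact ⟨G, inferInstance, hG, ι, hreal, hT⟩

end CfsgLib.Fus.HeisenbergSylow
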