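import Cfsg.Agent.Fus.HeisenbergSylow.Core
import Cfsg.Agent.Fus.LinearSimple

/-!
A group isomorphic to a Sylow `p`-subgroup of `SL₃` in characteristic `p` is of Heisenberg type.
-/

set_option autoImplicit false

namespace CfsgLib.Fus.HeisenbergSylow

open Cfsg Cfsg.FusionSystem CfsgLib.Fus.LinearSimple

variable {K : Type*} [Field K] [Fintype K] [DecidableEq K]

local notation "M3" => Matrix.SpecialLinearGroup (Fin 3) K

/-- The unitriangular element with the given entries. -/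
def uni3 (a b c : K) : M3 :=
  ⟨!![1, a, c; 0, 1, b; 0, 0, 1], by simp [Matrix.det_fin_three]⟩

theorem uni3_mem (a b c : K) : uni3 a b c ∈ (uniSL : Subgroup M3) := by
  refine mem_uniSL.2 ⟨fun i j hij => ?_, fun i => ?_⟩
  · fin_cases i <;> fin_cases j <;> simp [uni3, ent] at hij ⊢
  · fin_cases i <;> simp [uni3, ent]

theorem eq_uni3 {x : M3} (hx : x ∈ (uniSL : Subgroup M3)) :
    ∃ a b c, x = uni3 a b c := by
  refine ⟨ent x 0 1, ent x 1 2, ent x 0 2, Subtype.ext (Matrix.ext fun i j => ?_)⟩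
  obtain ⟨h1, h2⟩ := mem_uniSL.1 hx
  fin_cases i <;> fin_cases j <;> simp [uni3, ent]
  · exact h2 0
  · exact h1 1 0 (by decide)
  · exact h2 1
  · exact h1 2 0 (by decide)
  · exact h1 2 1 (by decide)
  · exact h2 2

theorem uni3_mul (a b c a' b' c' : K) :
    uni3 a b c * uni3 a' b' c' = uni3 (a + a') (b + b') (c + c' + a * b') := by
  refine Subtype.ext ?_
  rw [Matrix.SpecialLinearGroup.coe_mul]
  ext i j
  fin_cases i <;> fin_cases j <;> simp [uni3, Matrix.mul_apply, Fin.sum_univ_three] <;> ring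

theorem uni3_inj {a b c a' b' c' : K} (h : uni3 a b c = uni3 a' b' c') : a = a' ∧ b = b' ∧ c = c' := by
  have e := fun i j => congrArg (fun g : M3 => ent g i j) h
  exact ⟨by simpa [uni3, ent] using e 0 1, by simpa [uni3, ent] using e 1 2,
    by simpa [uni3, ent] using e 0 2⟩

theorem commute_uni3 {a b c a' b' c' : K} :
    Commute (uni3 a b c) (uni3 a' b' c') ↔ a * b' = a' * b := by
  rw [Commute, SemiconjBy, uni3_mul, uni3_mul]
  refine ⟨fun h => ?_, fun h => ?_⟩
  · have := (uni3_inj h).2.2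
    linear_combination this
  · rw [add_comm a a', add_comm b b', h, add_comm c c']

theorem uni3_inv (a b c : K) : (uni3 a b c)⁻¹ = uni3 (-a) (-b) (a * b - c) := by
  refine inv_eq_of_mul_eq_one_right ?_
  rw [uni3_mul]
  refine Subtype.ext ?_
  ext i j
  fin_cases i <;> fin_cases j <;> simp [uni3]

section
variable {Ω : Type*} [Group Ω] {S : Subgroup Ω}

/-- Transport along an injective map with image the unitriangular group. -/
theorem hType_of_uni (f : ↥S →* M3) (hf : Function.Injective f)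
    (hfr : f.range = (uniSL : Subgroup M3)) : HType S := by
  have co : ∀ {a b : Ω} (ha : a ∈ S) (hb : b ∈ S), Commute a b ↔ Commute (f ⟨a, ha⟩) (f ⟨b, hb⟩) := by
    intro a b ha hb
    refine ⟨fun h => (show Commute (⟨a, ha⟩ : S) ⟨b, hb⟩ from Subtype.ext h.eq).map f, fun h => ?_⟩
    have := hf (show f (⟨a, ha⟩ * ⟨b, hb⟩) = f (⟨b, hb⟩ * ⟨a, ha⟩) by rw [map_mul, map_mul, h.eq])
    exact congrArg Subtype.val this
  have coords : ∀ {a : Ω} (ha : a ∈ S), ∃ r s t, f ⟨a, ha⟩ = uni3 r s t := fun ha =>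
    eq_uni3 (hfr ▸ ⟨_, rfl⟩)
  have hz : ∀ {z : Ω} (hzS : z ∈ S) {r s t : K}, f ⟨z, hzS⟩ = uni3 r s t →
      (z ∈ zS S ↔ r = 0 ∧ s = 0) := by
    intro z hzS r s t he
    refine ⟨fun h => ?_, fun h => ⟨hzS, fun x hx => ?_⟩⟩
    · have key : ∀ a b : K, a * s = r * b := by
        intro a b
        obtain ⟨x, hx⟩ : uni3 a b 0 ∈ f.range := hfr ▸ uni3_mem a b 0
        have h1 := (co x.2 hzS).1 (h.2 x x.2)
        rwa [Subtype.coe_eta, hx, he, commute_uni3] at h1
      exact ⟨by simpa using (key 0 1).symm, by simpa using key 1 0⟩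
    · obtain ⟨a, b, c, hc⟩ := coords hx
      have h1 : Commute x z := (co hx hzS).2 (by rw [hc, he, commute_uni3, h.1, h.2]; simp)
      exact h1
  refine ⟨fun a ha b hb => ?_, fun x hx hxZ y hy z hzS hxy hxz => ?_, fun x hx hxZ z hz' => ?_⟩
  · obtain ⟨r, s, t, he⟩ := coords ha
    obtain ⟨r', s', t', he'⟩ := coords hb
    have hm : a * b * a⁻¹ * b⁻¹ ∈ S := S.mul_mem (S.mul_mem (S.mul_mem ha hb) (S.inv_mem ha)) (S.inv_mem hb)
    have e : f ⟨_, hm⟩ = f ⟨a, ha⟩ * f ⟨b, hb⟩ * (f ⟨a, ha⟩)⁻¹ * (f ⟨b, hb⟩)⁻¹ := by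
      rw [← map_inv, ← map_inv, ← map_mul, ← map_mul, ← map_mul]
      rfl
    rw [he, he', uni3_inv, uni3_inv, uni3_mul, uni3_mul, uni3_mul] at e
    exact (hz hm e).2 ⟨by ring, by ring⟩
  · obtain ⟨r, s, t, he⟩ := coords hx
    obtain ⟨r', s', t', he'⟩ := coords hy
    obtain ⟨r'', s'', t'', he''⟩ := coords hzS
    have h1 := (co hx hy).1 hxy
    have h2 := (co hx hzS).1 hxz
    rw [he, he', commute_uni3] at h1
    rw [he, he'', commute_uni3] at h2
    refine (co hy hzS).2 ?_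
    rw [he', he'', commute_uni3]
    by_cases hr : r = 0
    · subst hr
      have hs : s ≠ 0 := fun hs => hxZ ((hz hx he).2 ⟨rfl, hs⟩)
      simp only [zero_mul] at h1 h2
      have hr' : r' = 0 := (mul_eq_zero.1 h1.symm).resolve_right hs
      have hr'' : r'' = 0 := (mul_eq_zero.1 h2.symm).resolve_right hs
      simp [hr', hr'']
    · apply mul_left_cancel₀ hr
      linear_combination r' * h2 - r'' * h1
  · obtain ⟨r, s, t, he⟩ := coords hx
    obtain ⟨r', s', t', he'⟩ := coords hz'.1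
    obtain ⟨hr0, hs0⟩ := (hz hz'.1 he').1 hz'
    obtain ⟨a, b, hab⟩ : ∃ a b : K, a * s - r * b = t' := by
      by_cases hs : s = 0
      · have hr : r ≠ 0 := fun hr => hxZ ((hz hx he).2 ⟨hr, hs⟩)
        exact ⟨0, -(t' / r), by field_simp; ring⟩
      · exact ⟨t' / s, 0, by field_simp; ring⟩
    obtain ⟨g, hg⟩ : uni3 a b 0 ∈ f.range := hfr ▸ uni3_mem a b 0
    refine ⟨g, g.2, ?_⟩
    have key : g * (⟨x, hx⟩ : S) = ⟨x, hx⟩ * ⟨z, hz'.1⟩ * g := by
      refine hf ?_
      rw [map_mul, map_mul, map_mul, hg, he, he', hr0, hs0, uni3_mul, uni3_mul, uni3_mul,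
        ← hab]
      congr 1 <;> ring
    have key' := congrArg Subtype.val key
    simp only [Subgroup.coe_mul] at key'
    rw [key', mul_inv_cancel_right]

/-- A group isomorphic to a Sylow `p`-subgroup of `SL₃` in characteristic `p` is of Heisenberg type. -/
theorem hType_of_sylow (p : ℕ) [Fact p.Prime] [CharP K p]
    (T : Sylow p M3) (e : ↥S ≃* ↥(T : Subgroup M3)) : HType S := by
  let U : Sylow p M3 := uniSylow p
  let g := e.trans (Sylow.equiv T U)
  refine hType_of_uni ((U : Subgroup M3).subtype.comp g.toMonoidHom)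
    ((U : Subgroup M3).subtype_injective.comp g.injective) ?_
  rw [MonoidHom.range_comp, MonoidHom.range_eq_top.2 g.surjective, ← MonoidHom.range_eq_map,
    Subgroup.range_subtype]
  rfl

end

end CfsgLib.Fus.HeisenbergSylow
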